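import Cfsg.Agent.Lib.InvChar.SporData.HN.K1.F0
import Cfsg.Agent.Lib.InvChar.SporData.HN.K1.F1
import Cfsg.Agent.Lib.InvChar.SporData.HN.K1.F2
import Cfsg.Agent.Lib.InvChar.SporData.HN.K1.F3
import Cfsg.Agent.Lib.InvChar.SporData.HN.K1.F4
import Cfsg.Agent.Lib.InvChar.SporData.HN.K1.F5
import Cfsg.Agent.Lib.InvChar.SporData.HN.K1.F6
import Cfsg.Agent.Lib.InvChar.SporData.HN.K1.F7
import Cfsg.Agent.Lib.InvChar.SporData.HN.K1.F8
import Cfsg.Agent.Lib.InvChar.SporData.HN.K1.F9
import Cfsg.Agent.Lib.InvChar.SporData.HN.K1.F10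
import Cfsg.Agent.Lib.InvChar.SporData.HN.K1.F11
import Cfsg.Agent.Lib.InvChar.SporData.HN.K1.F12
import Cfsg.Agent.Lib.InvChar.SporData.HN.K1.F13
import Cfsg.Agent.Lib.InvChar.SporData.HN.K1.F14
import Cfsg.Agent.Lib.InvChar.SporData.HN.K1.F15
import Cfsg.Agent.Lib.InvChar.SporData.HN.K1.F16
import Cfsg.Agent.Lib.InvChar.SporData.HN.K1.F17
import Cfsg.Agent.Lib.InvChar.SporData.HN.K1.F18
import Cfsg.Agent.Lib.InvChar.SporData.HN.K1.F19
import Cfsg.Agent.Lib.InvChar.SporData.HN.K1.F20

/-! The listing of orbit 1 is checked. -/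

set_option autoImplicit false
set_option maxRecDepth 100000

namespace CfsgLib.InvChar.SporHN

open CfsgLib.InvChar.Coset

theorem kChecked1 : kList1.Checked ⟨1408, 2, derPerm1⟩ (pack4 0 904 829 621) where
  hroot := by decide +kernel
  elems j hj := by
    have hj : j < 126000 := hj
    rcases Nat.lt_or_ge j 6000 with h0 | h0
    · exact kList1.chkElems_get _ _ 6000 0 kChk1_0 j (by omega) (by omega)
    rcases Nat.lt_or_ge j 12000 with h1 | h1
    · exact kList1.chkElems_get _ _ 6000 6000 kChk1_1 j (by omega) (by omega)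
    rcases Nat.lt_or_ge j 18000 with h2 | h2
    · exact kList1.chkElems_get _ _ 6000 12000 kChk1_2 j (by omega) (by omega)
    rcases Nat.lt_or_ge j 24000 with h3 | h3
    · exact kList1.chkElems_get _ _ 6000 18000 kChk1_3 j (by omega) (by omega)
    rcases Nat.lt_or_ge j 30000 with h4 | h4
    · exact kList1.chkElems_get _ _ 6000 24000 kChk1_4 j (by omega) (by omega)
    rcases Nat.lt_or_ge j 36000 with h5 | h5
    · exact kList1.chkElems_get _ _ 6000 30000 kChk1_5 j (by omega) (by omega)
    rcases Nat.lt_or_ge j 42000 with h6 | h6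
    · exact kList1.chkElems_get _ _ 6000 36000 kChk1_6 j (by omega) (by omega)
    rcases Nat.lt_or_ge j 48000 with h7 | h7
    · exact kList1.chkElems_get _ _ 6000 42000 kChk1_7 j (by omega) (by omega)
    rcases Nat.lt_or_ge j 54000 with h8 | h8
    · exact kList1.chkElems_get _ _ 6000 48000 kChk1_8 j (by omega) (by omega)
    rcases Nat.lt_or_ge j 60000 with h9 | h9
    · exact kList1.chkElems_get _ _ 6000 54000 kChk1_9 j (by omega) (by omega)
    rcases Nat.lt_or_ge j 66000 with h10 | h10
    · exact kList1.chkElems_get _ _ 6000 60000 kChk1_10 j (by omega) (by omega)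
    rcases Nat.lt_or_ge j 72000 with h11 | h11
    · exact kList1.chkElems_get _ _ 6000 66000 kChk1_11 j (by omega) (by omega)
    rcases Nat.lt_or_ge j 78000 with h12 | h12
    · exact kList1.chkElems_get _ _ 6000 72000 kChk1_12 j (by omega) (by omega)
    rcases Nat.lt_or_ge j 84000 with h13 | h13
    · exact kList1.chkElems_get _ _ 6000 78000 kChk1_13 j (by omega) (by omega)
    rcases Nat.lt_or_ge j 90000 with h14 | h14
    · exact kList1.chkElems_get _ _ 6000 84000 kChk1_14 j (by omega) (by omega)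
    rcases Nat.lt_or_ge j 96000 with h15 | h15
    · exact kList1.chkElems_get _ _ 6000 90000 kChk1_15 j (by omega) (by omega)
    rcases Nat.lt_or_ge j 102000 with h16 | h16
    · exact kList1.chkElems_get _ _ 6000 96000 kChk1_16 j (by omega) (by omega)
    rcases Nat.lt_or_ge j 108000 with h17 | h17
    · exact kList1.chkElems_get _ _ 6000 102000 kChk1_17 j (by omega) (by omega)
    rcases Nat.lt_or_ge j 114000 with h18 | h18
    · exact kList1.chkElems_get _ _ 6000 108000 kChk1_18 j (by omega) (by omega)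
    rcases Nat.lt_or_ge j 120000 with h19 | h19
    · exact kList1.chkElems_get _ _ 6000 114000 kChk1_19 j (by omega) (by omega)
    rcases Nat.lt_or_ge j 126000 with h20 | h20
    · exact kList1.chkElems_get _ _ 6000 120000 kChk1_20 j (by omega) (by omega)
    omega

end CfsgLib.InvChar.SporHN
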